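/-
Package EX: existence of the critical index.
-/
import Cfsg.Agent.Lib.Helper71.Sym.Words

set_option autoImplicit false

namespace Cfsg.Agent.Lib.Helper71.Sym

variable {G : Type*} [Group G]

/-- every element of `⟨H, x⟩` is in `H` or of the form `h₁ u h₂` with `u` a word -/
theorem mem_closure_words {H : Subgroup G} {x : G} (hx2 : x * x ∈ H) {g : G}
    (hg : g ∈ Subgroup.closure ((H : Set G) ∪ {x})) :
    g ∈ H ∨ ∃ k, ∃ h₁ ∈ H, ∃ u ∈ Wd H x k, ∃ h₂ ∈ H, g = h₁ * u * h₂ := by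
  have hH : ∀ h ∈ H, ∀ y : G,
      (y ∈ H ∨ ∃ k, ∃ h₁ ∈ H, ∃ u ∈ Wd H x k, ∃ h₂ ∈ H, y = h₁ * u * h₂) →
      (h * y ∈ H ∨ ∃ k, ∃ h₁ ∈ H, ∃ u ∈ Wd H x k, ∃ h₂ ∈ H, h * y = h₁ * u * h₂) := by
    intro h hh y hy
    rcases hy with hy | ⟨k, h₁, hh₁, u, hu, h₂, hh₂, rfl⟩
    · exact Or.inl (H.mul_mem hh hy)
    · exact Or.inr ⟨k, h * h₁, H.mul_mem hh hh₁, u, hu, h₂, hh₂, by simp [mul_assoc]⟩
  have hX : ∀ y : G,
      (y ∈ H ∨ ∃ k, ∃ h₁ ∈ H, ∃ u ∈ Wd H x k, ∃ h₂ ∈ H, y = h₁ * u * h₂) →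
      (x * y ∈ H ∨ ∃ k, ∃ h₁ ∈ H, ∃ u ∈ Wd H x k, ∃ h₂ ∈ H, x * y = h₁ * u * h₂) := by
    intro y hy
    rcases hy with hy | ⟨k, h₁, hh₁, u, hu, h₂, hh₂, rfl⟩
    · exact Or.inr ⟨0, 1, H.one_mem, x, wd_zero.2 rfl, y, hy, by simp⟩
    · exact Or.inr ⟨k + 1, 1, H.one_mem, x * h₁ * u, wd_left_mem hu hh₁, h₂, hh₂,
        by simp [mul_assoc]⟩
  induction hg using Subgroup.closure_induction_left with
  | one => exact Or.inl H.one_mem
  | mul_left a ha y _ ih =>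
    rcases ha with ha | ha
    · exact hH a ha y ih
    · rw [Set.mem_singleton_iff] at ha; subst ha
      exact hX y ih
  | inv_mul_cancel a ha y _ ih =>
    rcases ha with ha | ha
    · exact hH a⁻¹ (H.inv_mem ha) y ih
    · rw [Set.mem_singleton_iff] at ha; subst ha
      have : a⁻¹ * y = a * ((a * a)⁻¹ * y) := by simp [mul_assoc]
      rw [this]
      exact hX _ (hH _ (H.inv_mem hx2) y ih)

theorem exists_word_not_le [Finite G] {H T Q : Subgroup G} {x : G} (hA : Amal H T Q x)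
    (hZF : ZF H T Q) : ∃ k, ∃ g ∈ Wd H x k, ¬ Zs H T ≤ cj g Q := by
  by_contra hcon
  push Not at hcon
  -- all elements of ⟨H, x⟩ satisfy Z ≤ cj g Q
  have hall : ∀ g ∈ Subgroup.closure ((H : Set G) ∪ {x}), Zs H T ≤ cj g Q := by
    intro g hg
    rcases mem_closure_words hA.x2H hg with hg | ⟨k, h₁, hh₁, u, hu, h₂, hh₂, rfl⟩
    · rw [hA.cjQ hg]; exact hZF.le_Q
    · rw [hA.cj_mul_Q _ hh₂, cj_mul, le_cj_iff, hZF.cjZ (H.inv_mem hh₁)]
      exact hcon k u hu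
  set G₁ : Subgroup G := Subgroup.closure ((H : Set G) ∪ {x}) with hG₁
  have hHG₁ : H ≤ G₁ := fun h hh => Subgroup.subset_closure (Or.inl hh)
  have hxG₁ : x ∈ G₁ := Subgroup.subset_closure (Or.inr rfl)
  set N : Subgroup G := ⨅ g : G₁, cj (g : G) Q with hN
  have hZN : Zs H T ≤ N := by
    rw [hN]
    exact le_iInf (fun g => hall g.1 g.2)
  have hNQ : N ≤ Q := by
    intro n hn
    rw [hN, Subgroup.mem_iInf] at hn
    have := hn ⟨1, G₁.one_mem⟩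
    simpa [cj_one] using this
  have hinv : ∀ a ∈ G₁, ∀ n ∈ N, a * n * a⁻¹ ∈ N := by
    intro a ha n hn
    rw [hN, Subgroup.mem_iInf] at hn ⊢
    intro g
    have h1 := hn ⟨a⁻¹ * g, G₁.mul_mem (G₁.inv_mem ha) g.2⟩
    rw [mem_cj] at h1 ⊢
    simpa [mul_assoc] using h1
  have hbot : N = ⊥ :=
    hA.hcore N (hNQ.trans hA.hQT) (fun h hh n hn => hinv h (hHG₁ hh) n hn)
      (fun n hn => hinv x hxG₁ n hn)
  apply hZF.ne_bot
  rw [eq_bot_iff]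
  exact hZN.trans hbot.le

theorem pkgEX.{u} : PkgEX.{u} := by
  intro G _ _ H T Q x hA hZF
  classical
  have hex := exists_word_not_le hA hZF
  refine ⟨Nat.find hex, Nat.find_spec hex, ?_⟩
  intro j hj g hg
  by_contra hcon
  exact Nat.find_min hex hj ⟨g, hg, hcon⟩

end Cfsg.Agent.Lib.Helper71.Sym
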