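/-
The symmetric S3-amalgam lemma: assembly of the packages.
-/
import Cfsg.Agent.Lib.Helper71.Sym.EX
import Cfsg.Agent.Lib.Helper22.Sym.SF
import Cfsg.Agent.Lib.Helper11.Sym.B3
import Cfsg.Agent.Lib.Helper47.Sym.B2
import Cfsg.Agent.Lib.Helper69.Sym.CR
import Cfsg.Agent.Lib.Helper74.Sym.C3
import Cfsg.Agent.Lib.Helper75.Sym.C7
import Cfsg.Agent.Lib.Helper75.Sym.LS
import Cfsg.Agent.Lib.Helper76.Sym.C10
import Cfsg.Agent.Lib.Helper76.Sym.SB
import Cfsg.Agent.Lib.Helper96.Sym.END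

set_option autoImplicit false

namespace Cfsg.Agent.Lib.Helper71.Sym

universe u

/-- The symmetric amalgam lemma from the basic facts `ZF`. -/
theorem saConcl_of_ZF {G : Type u} [Group G] [Finite G] {H T Q : Subgroup G} {x : G}
    (hA : Amal H T Q x) (hZF : ZF H T Q) : SAConcl T Q x := by
  obtain ⟨k, hk⟩ := pkgEX.{u} H T Q x hA hZF
  have hCR : CRAll H T Q x k := Cfsg.Agent.Lib.Helper69.Sym.pkgCR.{u} H T Q x hA hZF k hk
  obtain ⟨g, hg, hgc⟩ := hk.1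
  have hcr : CRF H T Q g := hCR g hg hgc
  -- the transvection
  obtain ⟨t, htZ, htQ⟩ : ∃ t ∈ cj g (Zs H T), t ∉ Q := by
    by_contra hcon
    apply hcr.gZ_not
    intro t ht
    by_contra htQ
    exact hcon ⟨t, ht, htQ⟩
  have htT : t ∈ T := hcr.gZ_le htZ
  have hYt : ∀ y ∈ Zs H T ⊓ cj g Q, t * y = y * t := by
    intro y hy
    have hy2 : g⁻¹ * y * g ∈ Q := mem_cj.1 hy.2
    have ht2 : g⁻¹ * t * g ∈ Zs H T := mem_cj.1 htZ
    have hc := hZF.comm_Q _ ht2 _ hy2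
    -- conjugate back
    have h1 : g * ((g⁻¹ * t * g) * (g⁻¹ * y * g)) * g⁻¹ = t * y := by group
    have h2 : g * ((g⁻¹ * y * g) * (g⁻¹ * t * g)) * g⁻¹ = y * t := by group
    rw [← h1, ← h2, hc]
  obtain ⟨w, hw⟩ := Cfsg.Agent.Lib.Helper75.Sym.pkgLS.{u} H T Q x hA hZF t htT htQ
    (Zs H T ⊓ cj g Q) inf_le_left hcr.index hYt
  have hC3 : C3F H T x := Cfsg.Agent.Lib.Helper74.Sym.pkgC3.{u} H T Q x hA hZF w hw
  have hC7 : C7All H T Q x w k :=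
    Cfsg.Agent.Lib.Helper75.Sym.pkgC7.{u} H T Q x hA hZF w hw k hk hCR
  rcases k with _ | k
  · -- b = 1
    have hgx : g = x := wd_zero.1 hg
    subst hgx
    exact Cfsg.Agent.Lib.Helper96.Sym.pkgEND.{u} H T Q g hA hZF w hw hC3 hgc
  · exfalso
    have hSB : SlideBack H T Q x k :=
      Cfsg.Agent.Lib.Helper76.Sym.pkgSB.{u} H T Q x hA hZF w hw k hk hCR hC7
    have hc : x * w * x⁻¹ ∈ Cs H T :=
      Cfsg.Agent.Lib.Helper76.Sym.pkgC10.{u} H T Q x hA hZF w hw k hk hCR hC7 hSB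
    rcases k with _ | k
    · exact Cfsg.Agent.Lib.Helper47.Sym.pkgB2.{u} H T Q x hA hZF w hw hC3 hk hCR hC7 hSB hc
    · have hSF : SlideFwd H T Q x (k + 1) :=
        Cfsg.Agent.Lib.Helper22.Sym.pkgSF.{u} H T Q x hA hZF (k + 1) hk hCR hSB
      exact Cfsg.Agent.Lib.Helper11.Sym.pkgB3.{u} H T Q x hA hZF w hw k hk hCR hC7 hSB hSF hc

/-- The symmetric amalgam lemma, given package Z. -/
theorem symAmalgam_of_pkgZ (hZ : PkgZ.{u}) : SymAmalgam.{u} := by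
  intro G _ _ H T Q x hA
  exact saConcl_of_ZF hA (hZ H T Q x hA)

end Cfsg.Agent.Lib.Helper71.Sym
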