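/-
The symmetric S3-amalgam lemma (final statement).
-/
import Cfsg.Agent.Lib.Helper71.Sym.Main
import Cfsg.Agent.Lib.Helper21.Sym.Z

set_option autoImplicit false

namespace Cfsg.Agent.Lib.Helper71.Sym

universe u

/-- The symmetric S3-amalgam lemma: `Amal H T Q x → SAConcl T Q x`. -/
theorem symAmalgam : SymAmalgam.{u} :=
  symAmalgam_of_pkgZ Cfsg.Agent.Lib.Helper21.Sym.pkgZ.{u}

/-- Usable form. -/
theorem saConcl {G : Type u} [Group G] [Finite G] {H T Q : Subgroup G} {x : G}
    (hA : Amal H T Q x) : SAConcl T Q x :=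
  symAmalgam.{u} H T Q x hA

end Cfsg.Agent.Lib.Helper71.Sym
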